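import Mathlib

set_option autoImplicit false
set_option linter.unusedSectionVars false
set_option linter.unusedVariables false
set_option linter.unusedSimpArgs false
set_option linter.style.haveILetI false
set_option maxHeartbeats 400000

/-!
# Symplectic bases over local rings
-/

open Module LinearMap

namespace Groth.Agent.Lib.Helper6.Sympl

universe u v

variable {R : Type u} [CommRing R]

/-- a family with invertible Gram matrix is linearly independent -/
lemma linearIndependent_of_gram {M : Type v} [AddCommGroup M] [Module R M]
    {ι : Type*} [Fintype ι] [DecidableEq ι] (B : LinearMap.BilinForm R M)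
    (v : ι → M) (G : Matrix ι ι R) (hG : IsUnit G.det) (hv : ∀ i j, B (v i) (v j) = G i j) :
    LinearIndependent R v := by
  rw [Fintype.linearIndependent_iff]
  intro g hg
  have h1 : ∀ j, ∑ i, g i * G i j = 0 := by
    intro j
    have := congrArg (fun x => B x (v j)) hg
    simp only [map_sum, map_smul, LinearMap.sum_apply, LinearMap.smul_apply, smul_eq_mul, hv,
      map_zero, LinearMap.zero_apply] at this
    exact this
  have h2 : Matrix.vecMul g G = 0 := by
    ext j
    simp only [Matrix.vecMul, dotProduct, Pi.zero_apply]
    exact h1 j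
  have h3 : g = 0 := by
    have := congrArg (fun w => Matrix.vecMul w G⁻¹) h2
    simp only [Matrix.vecMul_vecMul, Matrix.mul_nonsing_inv _ hG, Matrix.vecMul_one,
      Matrix.zero_vecMul] at this
    exact this
  intro i
  rw [h3]
  rfl

section Step

variable {M : Type v} [AddCommGroup M] [Module R M] (B : LinearMap.BilinForm R M)
  (hB : B.IsAlt) (e f : M) (hef : B e f = 1)

/-- the projection onto `span {e, f}` -/
noncomputable def pr : M →ₗ[R] M :=
  (B.flip f).smulRight e - (B.flip e).smulRight f

lemma pr_apply (x : M) : pr B e f x = B x f • e - B x e • f := rfl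

/-- the orthogonal complement of the hyperbolic plane -/
def W : Submodule R M := ker (B e) ⊓ ker (B f)

lemma mem_W {x : M} : x ∈ W B e f ↔ B e x = 0 ∧ B f x = 0 := by
  simp [W, Submodule.mem_inf, mem_ker]

include hB hef in
lemma sub_pr_mem (x : M) : x - pr B e f x ∈ W B e f := by
  have hfe : B f e = -1 := by rw [← LinearMap.IsAlt.neg hB e f, hef]
  rw [mem_W, pr_apply]
  constructor
  · simp only [map_sub, map_smul, smul_eq_mul, LinearMap.IsAlt.self_eq_zero hB e, hef, mul_zero, mul_one,
      zero_sub, sub_neg_eq_add]
    rw [← LinearMap.IsAlt.neg hB x e]; ring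
  · simp only [map_sub, map_smul, smul_eq_mul, LinearMap.IsAlt.self_eq_zero hB f, hfe, mul_zero, sub_zero]
    rw [← LinearMap.IsAlt.neg hB x f]; ring

include hB in
lemma pr_of_mem {w : M} (hw : w ∈ W B e f) : pr B e f w = 0 := by
  rw [mem_W] at hw
  have h1 : B w e = 0 := by rw [← LinearMap.IsAlt.neg hB e w, hw.1, neg_zero]
  have h2 : B w f = 0 := by rw [← LinearMap.IsAlt.neg hB f w, hw.2, neg_zero]
  rw [pr_apply, h1, h2, zero_smul, zero_smul, sub_zero]

/-- projection onto `W` -/
noncomputable def projW : M →ₗ[R] W B e f :=
  (LinearMap.id - pr B e f).codRestrict (W B e f) (fun x => sub_pr_mem B hB e f hef x)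

lemma projW_coe (x : M) : (projW B hB e f hef x : M) = x - pr B e f x := rfl

lemma projW_of_mem (w : W B e f) : projW B hB e f hef (w : M) = w := by
  apply Subtype.ext
  rw [projW_coe, pr_of_mem B hB e f w.2, sub_zero]

include hB hef in
lemma pr_e : pr B e f e = e := by
  rw [pr_apply, hef, LinearMap.IsAlt.self_eq_zero hB e, one_smul, zero_smul, sub_zero]

include hB hef in
lemma pr_f : pr B e f f = f := by
  have hfe : B f e = -1 := by rw [← LinearMap.IsAlt.neg hB e f, hef]
  rw [pr_apply, hfe, LinearMap.IsAlt.self_eq_zero hB f, zero_smul, neg_smul, one_smul, zero_sub, neg_neg]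

lemma projW_e : projW B hB e f hef e = 0 := by
  apply Subtype.ext
  rw [projW_coe, pr_e B hB e f hef, sub_self]; rfl

lemma projW_f : projW B hB e f hef f = 0 := by
  apply Subtype.ext
  rw [projW_coe, pr_f B hB e f hef, sub_self]; rfl

/-- the decomposition `M ≃ (R × R) × W` -/
noncomputable def decomp : M ≃ₗ[R] (R × R) × W B e f :=
  LinearEquiv.ofLinearMap
    (((B.flip f).prod (-(B.flip e))).prod (projW B hB e f hef))
    (((LinearMap.toSpanSingleton R M e).coprod (LinearMap.toSpanSingleton R M f)).coprod
      (W B e f).subtype)
    (by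
      have hfe : B f e = -1 := by rw [← LinearMap.IsAlt.neg hB e f, hef]
      apply LinearMap.ext
      rintro ⟨⟨a, b⟩, w⟩
      have hw := (mem_W B e f).mp w.2
      have h1 : B (w : M) e = 0 := by rw [← LinearMap.IsAlt.neg hB e w, hw.1, neg_zero]
      have h2 : B (w : M) f = 0 := by rw [← LinearMap.IsAlt.neg hB f w, hw.2, neg_zero]
      have hx : (((LinearMap.toSpanSingleton R M e).coprod (LinearMap.toSpanSingleton R M f)).coprod
          (W B e f).subtype) ((a, b), w) = a • e + b • f + (w : M) := by
        simp [LinearMap.coprod_apply, LinearMap.toSpanSingleton_apply]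
      rw [LinearMap.comp_apply, hx, LinearMap.id_apply]
      refine Prod.ext (Prod.ext ?_ ?_) ?_
      · change B (a • e + b • f + (w : M)) f = a
        simp only [map_add, map_smul, LinearMap.add_apply, LinearMap.smul_apply, smul_eq_mul,
          hef, LinearMap.IsAlt.self_eq_zero hB f, h2]
        ring
      · change -(B (a • e + b • f + (w : M)) e) = b
        simp only [map_add, map_smul, LinearMap.add_apply, LinearMap.smul_apply, smul_eq_mul,
          hfe, LinearMap.IsAlt.self_eq_zero hB e, h1]
        ring
      · change projW B hB e f hef (a • e + b • f + (w : M)) = w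
        rw [map_add, map_add, map_smul, map_smul, projW_e, projW_f, projW_of_mem, smul_zero,
          smul_zero, zero_add, zero_add])
    (by
      apply LinearMap.ext
      intro x
      change B x f • e + (-(B x e)) • f + (projW B hB e f hef x : M) = x
      rw [projW_coe, pr_apply, neg_smul]
      abel)

end Step

end Groth.Agent.Lib.Helper6.Sympl
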