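import Mathlib
import Groth.Agent.Lib.Helper6.Sympl.SBa

set_option autoImplicit false
set_option linter.unusedSectionVars false
set_option linter.unusedVariables false
set_option linter.unusedSimpArgs false
set_option linter.style.haveILetI false
set_option maxHeartbeats 400000

/-!
# Symplectic bases over local rings: the induction
-/

open Module LinearMap

namespace Groth.Agent.Lib.Helper6.Sympl

universe u v

variable {R : Type u} [CommRing R]

section Step

variable {M : Type v} [AddCommGroup M] [Module R M] (B : LinearMap.BilinForm R M)
  (hB : B.IsAlt) (e f : M) (hef : B e f = 1)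

include hB in
lemma restrict_isAlt : (B.restrict (W B e f)).IsAlt := fun w => hB (w : M)

include hB hef in
lemma restrict_bijective (hbij : Function.Bijective B) :
    Function.Bijective (B.restrict (W B e f)) := by
  constructor
  · rw [injective_iff_map_eq_zero]
    intro w hw
    have hw' := (mem_W B e f).mp w.2
    have h1 : B (w : M) e = 0 := by rw [← LinearMap.IsAlt.neg hB e w, hw'.1, neg_zero]
    have h2 : B (w : M) f = 0 := by rw [← LinearMap.IsAlt.neg hB f w, hw'.2, neg_zero]
    have hz : B (w : M) = 0 := by
      apply LinearMap.ext
      intro x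
      have hx : x = pr B e f x + (projW B hB e f hef x : M) := by
        rw [projW_coe]; abel
      have h3 : B (w : M) (projW B hB e f hef x : M) = 0 := by
        have := LinearMap.congr_fun hw (projW B hB e f hef x)
        simpa using this
      rw [hx, map_add, h3, pr_apply, map_sub, map_smul, map_smul, h1, h2]
      simp
    have := hbij.1 (hz.trans (map_zero B).symm)
    exact Subtype.ext this
  · intro ψ
    obtain ⟨z, hz⟩ := hbij.2 (ψ ∘ₗ projW B hB e f hef)
    have hze : B z e = 0 := by
      rw [hz, LinearMap.comp_apply, projW_e, map_zero]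
    have hzf : B z f = 0 := by
      rw [hz, LinearMap.comp_apply, projW_f, map_zero]
    have hzW : z ∈ W B e f := by
      rw [mem_W]
      constructor
      · rw [← LinearMap.IsAlt.neg hB z e, hze, neg_zero]
      · rw [← LinearMap.IsAlt.neg hB z f, hzf, neg_zero]
    refine ⟨⟨z, hzW⟩, ?_⟩
    apply LinearMap.ext
    intro w
    change B z (w : M) = ψ w
    rw [hz, LinearMap.comp_apply, projW_of_mem]

end Step

/-- the combined family -/
def combine {M : Type v} {l : Type} (e f : M) (b : l ⊕ l → M) : Option l ⊕ Option l → M
  | Sum.inl none => f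
  | Sum.inl (some i) => b (Sum.inl i)
  | Sum.inr none => e
  | Sum.inr (some i) => b (Sum.inr i)

theorem exists_symplectic_basis [IsLocalRing R] : ∀ (n : ℕ) (M : Type v) [AddCommGroup M]
    [Module R M] [Module.Free R M] [Module.Finite R M] (B : LinearMap.BilinForm R M),
    B.IsAlt → Function.Bijective B → Module.finrank R M = n →
    ∃ (l : Type) (_ : Fintype l) (_ : DecidableEq l) (b : Module.Basis (l ⊕ l) R M),
      ∀ i j, B (b i) (b j) = Matrix.J l R i j := by
  intro n
  induction n using Nat.strong_induction_on with
  | _ n ih =>
  intro M _ _ _ _ B hB hbij hn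
  by_cases hsub : Subsingleton M
  · refine ⟨Empty, inferInstance, inferInstance, Module.Basis.empty M, ?_⟩
    intro i
    exact i.elim (fun a => a.elim) (fun a => a.elim)
  rw [not_subsingleton_iff_nontrivial] at hsub
  -- a unimodular vector
  let b₀ := Module.Free.chooseBasis R M
  haveI : Nonempty (Module.Free.ChooseBasisIndex R M) := b₀.index_nonempty
  let i₀ : Module.Free.ChooseBasisIndex R M := Classical.arbitrary _
  let e : M := b₀ i₀
  obtain ⟨y, hy⟩ := hbij.2 (b₀.coord i₀)
  have hye : B y e = 1 := by
    rw [hy]; simp [e]
  let f : M := -y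
  have hef : B e f = 1 := by
    change B e (-y) = 1
    rw [map_neg, LinearMap.IsAlt.neg hB e y, hye]
  have hfe : B f e = -1 := by rw [← LinearMap.IsAlt.neg hB e f, hef]
  -- the complement
  have hsplit : (projW B hB e f hef) ∘ₗ (W B e f).subtype = LinearMap.id := by
    apply LinearMap.ext
    intro w
    exact projW_of_mem B hB e f hef w
  have hsurj : Function.Surjective (projW B hB e f hef) := fun w =>
    ⟨(w : M), projW_of_mem B hB e f hef w⟩
  haveI : Module.Finite R (W B e f) := Module.Finite.of_surjective _ hsurj
  haveI : Module.Projective R (W B e f) :=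
    Module.Projective.of_split (W B e f).subtype (projW B hB e f hef) hsplit
  haveI : Module.Free R (W B e f) := Module.free_of_flat_of_isLocalRing
  have hrank : Module.finrank R M = 2 + Module.finrank R (W B e f) := by
    rw [LinearEquiv.finrank_eq (decomp B hB e f hef), Module.finrank_prod, Module.finrank_prod,
      Module.finrank_self]
  obtain ⟨l, hl1, hl2, b, hb⟩ := ih (Module.finrank R (W B e f)) (by omega) (W B e f)
    (B.restrict (W B e f)) (restrict_isAlt B hB e f)
    (restrict_bijective B hB e f hef hbij) rfl
  -- the new family
  let v : Option l ⊕ Option l → M := combine e f (fun i => (b i : M))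
  have hW : ∀ i, B e (b i : M) = 0 ∧ B f (b i : M) = 0 := fun i => (mem_W B e f).mp (b i).2
  have hWe : ∀ i, B (b i : M) e = 0 := fun i => by
    rw [← LinearMap.IsAlt.neg hB e (b i : M), (hW i).1, neg_zero]
  have hWf : ∀ i, B (b i : M) f = 0 := fun i => by
    rw [← LinearMap.IsAlt.neg hB f (b i : M), (hW i).2, neg_zero]
  have hbb : ∀ i j, B (b i : M) (b j : M) = Matrix.J l R i j := hb
  have hgram : ∀ i j, B (v i) (v j) = Matrix.J (Option l) R i j := by
    intro i j
    rcases i with (_ | i) | (_ | i) <;> rcases j with (_ | j) | (_ | j)
    · simp [v, combine, Matrix.J, LinearMap.IsAlt.self_eq_zero hB f]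
    · simp [v, combine, Matrix.J, (hW (Sum.inl j)).2]
    · simp [v, combine, Matrix.J, hfe]
    · simp [v, combine, Matrix.J, (hW (Sum.inr j)).2]
    · simp [v, combine, Matrix.J, hWf]
    · have := hbb (Sum.inl i) (Sum.inl j)
      simp [v, combine, Matrix.J] at this ⊢
      exact this
    · simp [v, combine, Matrix.J, hWe]
    · have := hbb (Sum.inl i) (Sum.inr j)
      simp only [v, combine, Matrix.J, Matrix.fromBlocks_apply₁₂, Matrix.neg_apply,
        Matrix.one_apply] at this ⊢
      rw [this]
      by_cases hij : i = j
      · subst hij; simp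
      · simp [hij]
    · simp [v, combine, Matrix.J, hef]
    · simp [v, combine, Matrix.J, (hW (Sum.inl j)).1]
    · simp [v, combine, Matrix.J, LinearMap.IsAlt.self_eq_zero hB e]
    · simp [v, combine, Matrix.J, (hW (Sum.inr j)).1]
    · simp [v, combine, Matrix.J, hWf]
    · have := hbb (Sum.inr i) (Sum.inl j)
      simp only [v, combine, Matrix.J, Matrix.fromBlocks_apply₂₁, Matrix.one_apply] at this ⊢
      rw [this]
      by_cases hij : i = j
      · subst hij; simp
      · simp [hij]
    · simp [v, combine, Matrix.J, hWe]
    · have := hbb (Sum.inr i) (Sum.inr j)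
      simp [v, combine, Matrix.J] at this ⊢
      exact this
  have hli : LinearIndependent R v :=
    linearIndependent_of_gram B v (Matrix.J (Option l) R) (Matrix.isUnit_det_J _ _) hgram
  have hspan : ⊤ ≤ Submodule.span R (Set.range v) := by
    intro x _
    have hx : x = B x f • e - B x e • f + (projW B hB e f hef x : M) := by
      rw [projW_coe, pr_apply]; abel
    rw [hx]
    apply Submodule.add_mem
    · apply Submodule.sub_mem
      · exact Submodule.smul_mem _ _ (Submodule.subset_span ⟨Sum.inr none, rfl⟩)
      · exact Submodule.smul_mem _ _ (Submodule.subset_span ⟨Sum.inl none, rfl⟩)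
    · have hw : (projW B hB e f hef x : M) =
          ∑ i, b.repr (projW B hB e f hef x) i • (b i : M) := by
        have := congrArg (W B e f).subtype (b.sum_repr (projW B hB e f hef x)).symm
        rw [map_sum] at this
        simpa only [map_smul, Submodule.subtype_apply] using this
      rw [hw]
      apply Submodule.sum_mem
      intro i _
      apply Submodule.smul_mem
      apply Submodule.subset_span
      rcases i with i | i
      · exact ⟨Sum.inl (some i), rfl⟩
      · exact ⟨Sum.inr (some i), rfl⟩
  refine ⟨Option l, inferInstance, inferInstance, Module.Basis.mk hli hspan, ?_⟩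
  intro i j
  rw [Module.Basis.mk_apply, Module.Basis.mk_apply]
  exact hgram i j

end Groth.Agent.Lib.Helper6.Sympl
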