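import Mathlib
import Groth.Agent.Lib.Helper6.Sympl.SBb

set_option autoImplicit false
set_option linter.unusedSectionVars false
set_option linter.unusedVariables false
set_option linter.unusedSimpArgs false
set_option linter.style.haveILetI false
set_option maxHeartbeats 400000

/-!
# Isometries of perfect alternating forms have determinant one
-/

open Module LinearMap Matrix

namespace Groth.Agent.Lib.Helper6.Sympl

universe u v

variable {R : Type u} [CommRing R]

/-- local module form -/
theorem det_eq_one_of_isLocalRing [IsLocalRing R] {M : Type v} [AddCommGroup M] [Module R M]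
    [Module.Free R M] [Module.Finite R M] (B : LinearMap.BilinForm R M) (hB : B.IsAlt)
    (hbij : Function.Bijective B) (g : M →ₗ[R] M) (hg : ∀ x y, B (g x) (g y) = B x y) :
    LinearMap.det g = 1 := by
  obtain ⟨l, _, _, b, hb⟩ := exists_symplectic_basis _ M B hB hbij rfl
  have hJ : LinearMap.BilinForm.toMatrix b B = Matrix.J l R := by
    ext i j
    rw [LinearMap.BilinForm.toMatrix_apply, hb]
  have hcomp : B.comp g g = B := by
    ext x y
    simp [hg]
  have := LinearMap.BilinForm.toMatrix_comp b b B g g
  rw [hcomp, hJ] at this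
  have hmem : LinearMap.toMatrix b b g ∈ Matrix.symplecticGroup l R :=
    SymplecticGroup.mem_iff'.mpr this.symm
  rw [← LinearMap.det_toMatrix b]
  exact SymplecticGroup.det_eq_one hmem

/-- entrywise alternating matrix -/
def IsAltMatrix {ι : Type*} (J : Matrix ι ι R) : Prop :=
  (∀ i, J i i = 0) ∧ ∀ i j, J i j = -J j i

lemma IsAltMatrix.map {ι : Type*} {J : Matrix ι ι R} (hJ : IsAltMatrix J) {S : Type*}
    [CommRing S] (φ : R →+* S) : IsAltMatrix (J.map φ) := by
  constructor
  · intro i
    rw [Matrix.map_apply, hJ.1, map_zero]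
  · intro i j
    rw [Matrix.map_apply, Matrix.map_apply, hJ.2 i j, map_neg]

variable {ι : Type*} [Fintype ι] [DecidableEq ι]

lemma toBilin'_isAlt {J : Matrix ι ι R} (hJ : IsAltMatrix J) : (Matrix.toBilin' J).IsAlt := by
  intro v
  rw [Matrix.toBilin'_apply, ← Finset.sum_product']
  apply Finset.sum_ninvolution (fun p => Prod.swap p)
  · intro p
    simp only [Prod.fst_swap, Prod.snd_swap]
    rw [hJ.2 p.1 p.2]
    ring
  · intro p hne hfix
    apply hne
    have h12 : p.2 = p.1 := congrArg Prod.fst hfix
    rw [h12, hJ.1]
    ring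
  · intro p
    exact Finset.mem_product.mpr ⟨Finset.mem_univ _, Finset.mem_univ _⟩
  · intro p
    exact Prod.swap_swap p

lemma toBilin'_bijective {J : Matrix ι ι R} (hJ : IsUnit J.det) :
    Function.Bijective (Matrix.toBilin' J) := by
  constructor
  · rw [injective_iff_map_eq_zero]
    intro v hv
    have h2 : Matrix.vecMul v J = 0 := by
      ext j
      have := LinearMap.congr_fun hv (Pi.single j 1)
      rw [Matrix.toBilin'_apply', Matrix.dotProduct_mulVec, dotProduct_single, mul_one] at this
      exact this
    have := congrArg (fun w => Matrix.vecMul w J⁻¹) h2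
    simp only [Matrix.vecMul_vecMul, Matrix.mul_nonsing_inv _ hJ, Matrix.vecMul_one,
      Matrix.zero_vecMul] at this
    exact this
  · intro ψ
    refine ⟨Matrix.vecMul (fun j => ψ (Pi.single j 1)) J⁻¹, ?_⟩
    apply LinearMap.ext
    intro w
    rw [Matrix.toBilin'_apply', Matrix.dotProduct_mulVec, Matrix.vecMul_vecMul,
      Matrix.nonsing_inv_mul _ hJ, Matrix.vecMul_one, LinearMap.pi_apply_eq_sum_univ ψ w]
    simp only [dotProduct, smul_eq_mul]
    apply Finset.sum_congr rfl
    intro i _
    have : (fun j => if i = j then (1 : R) else 0) = Pi.single i 1 := by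
      funext j
      simp [Pi.single_apply, eq_comm]
    rw [this]
    ring

/-- local matrix form -/
theorem det_eq_one_matrix_local [IsLocalRing R] {J G : Matrix ι ι R} (hJ : IsAltMatrix J)
    (hJu : IsUnit J.det) (hG : Gᵀ * J * G = J) : G.det = 1 := by
  have hg : ∀ x y : ι → R, Matrix.toBilin' J (Matrix.toLin' G x) (Matrix.toLin' G y) =
      Matrix.toBilin' J x y := by
    intro x y
    have := Matrix.toBilin'_comp J G G
    rw [hG] at this
    have h2 := LinearMap.congr_fun (LinearMap.congr_fun this x) y
    simpa using h2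
  have := det_eq_one_of_isLocalRing (Matrix.toBilin' J) (toBilin'_isAlt hJ)
    (toBilin'_bijective hJu) (Matrix.toLin' G) hg
  rwa [LinearMap.det_toLin'] at this

/-- global matrix form -/
theorem det_eq_one_matrix {J G : Matrix ι ι R} (hJ : IsAltMatrix J)
    (hJu : IsUnit J.det) (hG : Gᵀ * J * G = J) : G.det = 1 := by
  refine sub_eq_zero.1 <| eq_zero_of_localization _ fun P hP => ?_
  haveI := hP.isPrime
  set φ := algebraMap R (Localization.AtPrime P) with hφ
  have h1 : (G.map φ)ᵀ * (J.map φ) * (G.map φ) = J.map φ := by
    have := congrArg (fun A : Matrix ι ι R => A.map φ) hG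
    simpa [Matrix.map_mul, Matrix.transpose_map] using this
  have h2 : IsUnit (J.map φ).det := by
    have := hJu.map φ
    rwa [RingHom.map_det] at this
  have h3 := det_eq_one_matrix_local (hJ.map φ) h2 h1
  rw [map_sub, map_one, RingHom.map_det]
  change (G.map φ).det - 1 = 0
  rw [h3, sub_self]

end Groth.Agent.Lib.Helper6.Sympl
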