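import Mathlib
import Groth.Prelude.Def_QuadGrp
import Groth.Agent.Lib.Helper6.Sympl.SBc

set_option autoImplicit false
set_option linter.unusedSectionVars false
set_option linter.unusedVariables false
set_option linter.unusedSimpArgs false
set_option linter.style.haveILetI false
set_option maxHeartbeats 400000

/-!
# In characteristic 2, every isometry of a regular quadratic form has determinant one
-/

open Module LinearMap Matrix

namespace Groth.Agent.Lib.Helper6.Sympl

universe u v

variable {R : Type u} [CommRing R]

/-- isometries of a perfect alternating form on a finite free module have determinant one -/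
theorem det_eq_one_of_alt {M : Type v} [AddCommGroup M] [Module R M]
    [Module.Free R M] [Module.Finite R M] (B : LinearMap.BilinForm R M) (hB : B.IsAlt)
    (hbij : Function.Bijective B) (g : M →ₗ[R] M) (hg : ∀ x y, B (g x) (g y) = B x y) :
    LinearMap.det g = 1 := by
  classical
  let b := Module.Free.chooseBasis R M
  set J₀ := LinearMap.BilinForm.toMatrix b B with hJ₀
  have hJalt : IsAltMatrix J₀ := by
    constructor
    · intro i
      rw [hJ₀, LinearMap.BilinForm.toMatrix_apply, hB]
    · intro i j
      rw [hJ₀, LinearMap.BilinForm.toMatrix_apply, LinearMap.BilinForm.toMatrix_apply,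
        LinearMap.IsAlt.neg hB]
  have hJu : IsUnit J₀.det := by
    have h1 := LinearEquiv.isUnit_det (LinearEquiv.ofBijective B hbij) b b.dualBasis
    have h2 : LinearMap.toMatrix b b.dualBasis
        (LinearEquiv.ofBijective B hbij : M →ₗ[R] Module.Dual R M) = J₀ᵀ := by
      ext i j
      rw [LinearMap.toMatrix_apply, Matrix.transpose_apply, hJ₀,
        LinearMap.BilinForm.toMatrix_apply]
      simp
    rw [h2, Matrix.det_transpose] at h1
    exact h1
  have hcomp : B.comp g g = B := by
    ext x y
    simp [hg]
  have h3 := LinearMap.BilinForm.toMatrix_comp b b B g g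
  rw [hcomp] at h3
  have := det_eq_one_matrix hJalt hJu h3.symm
  rwa [LinearMap.det_toMatrix] at this

/-- **`O(Q) = SO'(Q)` in characteristic 2.** -/
theorem O_eq_SO' [CharP R 2] {M : Type v} [AddCommGroup M] [Module R M] [Module.Free R M]
    [Module.Finite R M] (Q : QuadraticForm R M) (hQ : QuadGrp.IsRegular Q) :
    QuadGrp.O Q = QuadGrp.SO' Q := by
  apply le_antisymm
  · intro g hg
    rw [QuadGrp.SO', Subgroup.mem_inf]
    refine ⟨hg, ?_⟩
    have hB : (QuadraticMap.polarBilin Q).IsAlt := by
      intro x
      rw [QuadraticMap.polarBilin_apply_apply, QuadraticMap.polar_self, two_smul,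
        CharTwo.add_self_eq_zero]
    have hg' : ∀ x y, QuadraticMap.polarBilin Q (g x) (g y) = QuadraticMap.polarBilin Q x y := by
      intro x y
      have h := (QuadGrp.mem_O Q g).mp hg
      simp only [QuadraticMap.polarBilin_apply_apply, QuadraticMap.polar, ← map_add, h]
    have := det_eq_one_of_alt (QuadraticMap.polarBilin Q) hB hQ (g : M →ₗ[R] M) hg'
    rw [MonoidHom.mem_ker]
    apply Units.ext
    rw [LinearEquiv.coe_det]
    exact this
  · exact inf_le_left

end Groth.Agent.Lib.Helper6.Sympl
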